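import Groth.Agent.Lib.Hens.StrictBC
import Groth.Agent.Lib.Hens.Noetherian

/-!
# Quotients and strict henselizations
-/

open IsLocalRing

namespace Groth.Agent.Hens15

universe u

/-- A quotient of a strict henselization is a strict henselization of the quotient. -/
theorem isStrictHenselization_quotient {A S : Type u} [CommRing A] [IsLocalRing A] [CommRing S]
    [IsLocalRing S] [Algebra A S] [IsLocalHom (algebraMap A S)] [Hensel.IsStrictHenselization A S]
    (I : Ideal A) [IsLocalRing (A ⧸ I)] [IsLocalRing (S ⧸ I.map (algebraMap A S))]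
    [IsLocalHom (algebraMap (A ⧸ I) (S ⧸ I.map (algebraMap A S)))] :
    Hensel.IsStrictHenselization (A ⧸ I) (S ⧸ I.map (algebraMap A S)) := by
  let qA := Ideal.Quotient.mk I
  let qS := Ideal.Quotient.mk (I.map (algebraMap A S))
  haveI : IsLocalHom qA := IsLocalHom.of_surjective _ Ideal.Quotient.mk_surjective
  haveI : IsLocalHom qS := IsLocalHom.of_surjective _ Ideal.Quotient.mk_surjective
  let eA : ResidueField A ≃+* ResidueField (A ⧸ I) :=
    RingEquiv.ofBijective (ResidueField.map qA) ⟨RingHom.injective _, fun y => by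
      obtain ⟨x, rfl⟩ := residue_surjective y
      obtain ⟨a, rfl⟩ := Ideal.Quotient.mk_surjective x
      exact ⟨residue A a, rfl⟩⟩
  let eS : ResidueField S ≃+* ResidueField (S ⧸ I.map (algebraMap A S)) :=
    RingEquiv.ofBijective (ResidueField.map qS) ⟨RingHom.injective _, fun y => by
      obtain ⟨x, rfl⟩ := residue_surjective y
      obtain ⟨a, rfl⟩ := Ideal.Quotient.mk_surjective x
      exact ⟨residue S a, rfl⟩⟩
  have hsq : ∀ x, eS (ResidueField.map (algebraMap A S) x) =
      ResidueField.map (algebraMap (A ⧸ I) (S ⧸ I.map (algebraMap A S))) (eA x) := fun x => by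
    obtain ⟨a, rfl⟩ := residue_surjective x
    rfl
  have hsep := Hensel.IsStrictHenselization.isSepClosure (R := A) (S := S)
  refine { henselian := ?_, isSepClosure := ⟨?_, ?_⟩, universal := ?_ }
  · have : HenselianLocalRing S := Hensel.IsStrictHenselization.henselian (R := A)
    exact Hens.henselianLocalRing_of_isIntegral S _
  · haveI := hsep.1
    exact IsSepClosed.of_exists_root _ fun p _ hp hs => by
      obtain ⟨r, hr⟩ := IsSepClosed.exists_root (p.map eS.symm.toRingHom)
        (by rw [Polynomial.degree_map]; exact hp.degree_pos.ne')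
        (hs.map)
      refine ⟨eS r, ?_⟩
      have h2 := congrArg eS hr
      rw [map_zero, Polynomial.eval_map] at h2
      refine Eq.trans ?_ h2
      show _ = eS.toRingHom (Polynomial.eval₂ eS.symm.toRingHom r p)
      rw [Polynomial.hom_eval₂, Polynomial.eval]
      congr 1
      exact RingHom.ext fun y => (eS.apply_symm_apply y).symm
  · haveI := hsep.2
    exact Algebra.IsSeparable.of_equiv_equiv eA eS (RingHom.ext fun x => (hsq x).symm)
  · intro T _ _ f hf τ hτ
    obtain ⟨g, ⟨hg, hgτ⟩, hu⟩ := Hensel.IsStrictHenselization.universal (R := A) (S := S) T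
      (f.comp qA) (τ.comp eS.toRingHom) (RingHom.ext fun x => by
        show τ (eS (ResidueField.map (algebraMap A S) x)) = ResidueField.map (f.comp qA) x
        rw [hsq, ← RingHom.comp_apply τ, hτ]
        obtain ⟨a, rfl⟩ := residue_surjective x
        rfl)
    have hker : ∀ x ∈ I.map (algebraMap A S), g x = 0 := by
      intro x hx
      have : I.map (algebraMap A S) ≤ RingHom.ker g := by
        rw [Ideal.map_le_iff_le_comap]
        intro a ha
        show g (algebraMap A S a) = 0
        rw [← RingHom.comp_apply, hg, RingHom.comp_apply, Ideal.Quotient.eq_zero_iff_mem.mpr ha,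
          map_zero]
      exact this hx
    refine ⟨Ideal.Quotient.lift _ g hker, ⟨?_, fun x => ?_⟩, fun g' hg' => ?_⟩
    · refine Ideal.Quotient.ringHom_ext (RingHom.ext fun a => ?_)
      show g (algebraMap A S a) = f (qA a)
      rw [← RingHom.comp_apply, hg]
      rfl
    · obtain ⟨s, rfl⟩ := Ideal.Quotient.mk_surjective x
      exact hgτ s
    · refine Ideal.Quotient.ringHom_ext ?_
      rw [Ideal.Quotient.lift_comp_mk]
      refine hu _ ⟨RingHom.ext fun a => ?_, fun s => hg'.2 (qS s)⟩
      show g' (qS (algebraMap A S a)) = f (qA a)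
      rw [← hg'.1]
      rfl

/-- The quotient of a strict henselization by an extended proper ideal is Noetherian when the
quotient downstairs is. -/
theorem isNoetherianRing_quotient {A S : Type u} [CommRing A] [IsLocalRing A] [CommRing S]
    [IsLocalRing S] [Algebra A S] [IsLocalHom (algebraMap A S)] [Hensel.IsStrictHenselization A S]
    (I : Ideal A) (hI : I ≠ ⊤) (h : IsNoetherianRing (A ⧸ I)) :
    IsNoetherianRing (S ⧸ I.map (algebraMap A S)) := by
  haveI : Nontrivial (A ⧸ I) := Ideal.Quotient.nontrivial_iff.2 hI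
  haveI : IsLocalRing (A ⧸ I) := .of_surjective' (Ideal.Quotient.mk I) Ideal.Quotient.mk_surjective
  have hle : I.map (algebraMap A S) ≤ maximalIdeal S :=
    (Ideal.map_mono (IsLocalRing.le_maximalIdeal hI)).trans
      (((local_hom_TFAE (algebraMap A S)).out 0 2).mp ‹_›)
  haveI : Nontrivial (S ⧸ I.map (algebraMap A S)) :=
    Ideal.Quotient.nontrivial_iff.2 (ne_top_of_le_ne_top (maximalIdeal.isMaximal S).ne_top hle)
  haveI : IsLocalRing (S ⧸ I.map (algebraMap A S)) :=
    .of_surjective' (Ideal.Quotient.mk _) Ideal.Quotient.mk_surjective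
  haveI : IsLocalHom (algebraMap (A ⧸ I) (S ⧸ I.map (algebraMap A S))) := ⟨fun x hx => by
    obtain ⟨a, rfl⟩ := Ideal.Quotient.mk_surjective x
    haveI : IsLocalHom (Ideal.Quotient.mk (I.map (algebraMap A S))) :=
      IsLocalHom.of_surjective _ Ideal.Quotient.mk_surjective
    exact ((isUnit_map_iff (algebraMap A S) a).1
      (isUnit_of_map_unit (Ideal.Quotient.mk (I.map (algebraMap A S))) _ hx)).map _⟩
  haveI := isStrictHenselization_quotient (A := A) (S := S) I
  exact Hens.strictHenselization_isNoetherianRing (A ⧸ I) (S ⧸ I.map (algebraMap A S))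

end Groth.Agent.Hens15
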